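import Mathlib

/-!
Residue fields of the restriction of a valuation to a subfield.
-/

set_option autoImplicit false
set_option linter.style.haveILetI false

universe u

open Cardinal

namespace Groth.Agent.RatDivLib

variable {k F K R κ : Type u} [Field k] [Field F] [Field K] [CommRing R] [IsDomain R] [ValuationRing R]
  [Field κ] [Algebra k F] [Algebra k K] [Algebra F K] [IsScalarTower k F K] [Algebra k R] [Algebra R K]
  [IsScalarTower k R K] [IsFractionRing R K] [Algebra k κ] [Algebra R κ] [IsScalarTower k R κ]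

/-- The residues of the elements of the subfield lying in the valuation ring. -/
def resSub (k F K R κ : Type u) [Field k] [Field F] [Field K] [CommRing R] [Field κ] [Algebra k F] [Algebra k K]
    [Algebra F K] [IsScalarTower k F K] [Algebra k R] [Algebra R K] [IsScalarTower k R K] [Algebra k κ]
    [Algebra R κ] [IsScalarTower k R κ] : Subalgebra k κ where
  carrier := {z | ∃ (a : F) (r : R), algebraMap F K a = algebraMap R K r ∧ algebraMap R κ r = z}
  mul_mem' := by
    rintro _ _ ⟨a, r, h, rfl⟩ ⟨a', r', h', rfl⟩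
    exact ⟨a * a', r * r', by rw [map_mul, map_mul, h, h'], map_mul _ _ _⟩
  add_mem' := by
    rintro _ _ ⟨a, r, h, rfl⟩ ⟨a', r', h', rfl⟩
    exact ⟨a + a', r + r', by rw [map_add, map_add, h, h'], map_add _ _ _⟩
  algebraMap_mem' c := ⟨algebraMap k F c, algebraMap k R c,
    by rw [← IsScalarTower.algebraMap_apply, ← IsScalarTower.algebraMap_apply],
    (IsScalarTower.algebraMap_apply k R κ c).symm⟩

omit [IsDomain R] [ValuationRing R] [IsFractionRing R K] in
theorem mem_resSub {z : κ} : z ∈ resSub k F K R κ ↔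
    ∃ (a : F) (r : R), algebraMap F K a = algebraMap R K r ∧ algebraMap R κ r = z := Iff.rfl

/-- Lifts of independent residues are independent. -/
theorem algebraicIndependent_lift {ι : Type u} (z : ι → κ) (hz : AlgebraicIndependent (resSub k F K R κ) z)
    (r : ι → R) (hr : ∀ i, algebraMap R κ (r i) = z i) :
    AlgebraicIndependent F fun i => algebraMap R K (r i) := by
  classical
  rw [algebraicIndependent_iff]
  intro p hp
  by_contra hp0
  let v := ValuationRing.valuation R K
  obtain ⟨d₀, hd₀, hmax⟩ := Finset.exists_max_image p.support (fun d => v (algebraMap F K (p.coeff d)))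
    (MvPolynomial.support_nonempty.2 hp0)
  have ha0 : p.coeff d₀ ≠ 0 := MvPolynomial.mem_support_iff.1 hd₀
  have hint : ∀ d, ∃ c : R, algebraMap F K (p.coeff d / p.coeff d₀) = algebraMap R K c := fun d => by
    by_cases hd : d ∈ p.support
    · have h : algebraMap F K (p.coeff d / p.coeff d₀) ∈ v.integer := by
        show v _ ≤ 1
        rw [map_div₀, map_div₀]
        refine div_le_one_of_le₀ (hmax d hd) (zero_le)
      obtain ⟨c, hc⟩ := (ValuationRing.mem_integer_iff R K _).1 h
      exact ⟨c, hc.symm⟩
    · exact ⟨0, by rw [MvPolynomial.notMem_support_iff.1 hd, zero_div, map_zero, map_zero]⟩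
  choose c hc using hint
  let q : MvPolynomial ι (resSub k F K R κ) := ∑ d ∈ p.support,
    MvPolynomial.monomial d ⟨algebraMap R κ (c d), p.coeff d / p.coeff d₀, c d, hc d, rfl⟩
  have hq : MvPolynomial.aeval z q = 0 := by
    have hsum : (∑ d ∈ p.support, c d * d.prod fun i e => r i ^ e) = 0 := by
      refine IsFractionRing.injective R K ?_
      rw [map_zero, map_sum]
      have h : (algebraMap F K (p.coeff d₀))⁻¹ * MvPolynomial.aeval (fun i => algebraMap R K (r i)) p = 0 := by
        rw [hp, mul_zero]
      rw [← h, MvPolynomial.aeval_def, MvPolynomial.eval₂_eq, Finset.mul_sum]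
      refine Finset.sum_congr rfl fun d _ => ?_
      rw [map_mul, ← hc, map_div₀, div_eq_inv_mul, mul_assoc, map_finsuppProd, Finsupp.prod]
      simp only [map_pow]
    rw [map_sum, ← map_zero (algebraMap R κ), ← hsum, map_sum]
    refine Finset.sum_congr rfl fun d _ => ?_
    rw [MvPolynomial.aeval_monomial, map_mul, map_finsuppProd]
    simp only [map_pow, hr]
    rfl
  have h := (algebraicIndependent_iff.1 hz) q hq
  have h1 : q.coeff d₀ = ⟨algebraMap R κ (c d₀), p.coeff d₀ / p.coeff d₀, c d₀, hc d₀, rfl⟩ := by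
    simp only [q, MvPolynomial.coeff_sum, MvPolynomial.coeff_monomial]
    rw [Finset.sum_ite_eq' p.support d₀]
    simp [hd₀]
  rw [h, MvPolynomial.coeff_zero] at h1
  have h2 : algebraMap R K (c d₀) = algebraMap R K 1 := by rw [← hc, div_self ha0, map_one, map_one]
  have h3 := congrArg Subtype.val h1
  simp only [IsFractionRing.injective R K h2, map_one] at h3
  exact zero_ne_one h3

/-- Enough independent residues in the subfield. -/
theorem exists_indep_residues (hsurj : Function.Surjective (algebraMap R κ)) {d n m : ℕ}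
    (hκ : Algebra.trdeg k κ = (d : Cardinal.{u})) (hK : Algebra.trdeg k K = ((d + 1 : ℕ) : Cardinal.{u}))
    (hF : Algebra.trdeg k F = (n : Cardinal.{u})) (hm : m + 1 ≤ n ∨ m = 0) :
    ∃ (t : Fin m → F) (r : Fin m → R), (∀ i, algebraMap F K (t i) = algebraMap R K (r i)) ∧
      AlgebraicIndependent k fun i => algebraMap R κ (r i) := by
  let B := resSub k F K R κ
  have hadd : Algebra.trdeg k F + Algebra.trdeg F K = Algebra.trdeg k K := trdeg_add_eq k F
  have hadd' : Algebra.trdeg k B + Algebra.trdeg B κ = Algebra.trdeg k κ := trdeg_add_eq k B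
  have hle : Algebra.trdeg B κ ≤ Algebra.trdeg F K := by
    refine ciSup_le' fun s => ?_
    choose r hr using fun z : s.1 => hsurj z.1
    exact (algebraicIndependent_lift (fun z : s.1 => z.1) s.2 r hr).cardinalMk_le_trdeg
  rw [hF, hK] at hadd
  rw [hκ] at hadd'
  obtain ⟨e, he⟩ := Cardinal.lt_aleph0.1 (lt_of_le_of_lt (le_add_self.trans hadd.le) (Cardinal.natCast_lt_aleph0))
  obtain ⟨b, hb⟩ := Cardinal.lt_aleph0.1 (lt_of_le_of_lt (le_self_add.trans hadd'.le) (Cardinal.natCast_lt_aleph0))
  obtain ⟨e', he'⟩ := Cardinal.lt_aleph0.1 (lt_of_le_of_lt (le_add_self.trans hadd'.le) (Cardinal.natCast_lt_aleph0))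
  rw [he] at hadd hle
  rw [hb, he'] at hadd'
  rw [he'] at hle
  have h1 : n + e = d + 1 := by exact_mod_cast hadd
  have h2 : b + e' = d := by exact_mod_cast hadd'
  have h3 : e' ≤ e := by exact_mod_cast hle
  obtain ⟨s, hs⟩ := exists_isTranscendenceBasis k B
  have hcard : (m : Cardinal.{u}) ≤ #s := by
    rw [hs.cardinalMk_eq_trdeg, hb]
    exact_mod_cast (by omega : m ≤ b)
  obtain ⟨em⟩ : Nonempty (Fin m ↪ s) := by
    rw [← Cardinal.lift_mk_le']
    simpa using hcard
  choose t r ht hr using fun i => (em i).1.2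
  refine ⟨t, r, ht, ?_⟩
  simp only [hr]
  exact (hs.1.comp _ em.injective).map' (f := B.val) Subtype.val_injective

end Groth.Agent.RatDivLib
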