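import Groth.Agent.RelAssLib.Generic

/-!
The closure of a section over a nonempty open of a proper scheme over an integral base.
-/

set_option autoImplicit false
set_option linter.style.haveILetI false
set_option maxHeartbeats 1000000
set_option backward.isDefEq.respectTransparency false

universe u

open CategoryTheory CategoryTheory.Limits AlgebraicGeometry TopologicalSpace

noncomputable section

namespace Groth.Agent.RatDivLib

variable {X : Scheme.{u}}

/-- The reduced closure of a generic section is a modification. -/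
theorem exists_closure [IsIntegral X] {P : Scheme.{u}} (p : P ⟶ X) [IsProper p] (U : X.Opens)
    (σ : (U : Scheme.{u}) ⟶ P) (hσ : σ ≫ p = U.ι) (hU : (U : Set X).Nonempty) :
    ∃ (X' : Scheme.{u}) (i : X' ⟶ P) (s : (U : Scheme.{u}) ⟶ X'), IsIntegral X' ∧ IsClosedImmersion i ∧
      IsIso ((i ≫ p) ∣_ U) ∧ IsOpenImmersion s ∧ s ≫ i = σ := by
  haveI : Nonempty U := ⟨⟨_, hU.choose_spec⟩⟩
  haveI : IsIntegral (U : Scheme.{u}) := isIntegral_of_isOpenImmersion U.ι
  let η := genericPoint (U : Scheme.{u})
  let Z : Closeds P := Closeds.closure {σ η}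
  let I := Scheme.IdealSheafData.vanishingIdeal Z
  haveI : IsIntegral I.subscheme := RelAssLib.isIntegral_vanishingIdeal_closure (σ η)
  have hle : I ≤ σ.ker := by
    rw [← Scheme.IdealSheafData.map_bot σ, Scheme.IdealSheafData.le_map_iff_comap_le, le_bot_iff,
      ← Scheme.IdealSheafData.support_eq_top_iff, Scheme.IdealSheafData.support_comap, eq_top_iff]
    intro x _
    show σ x ∈ (I.support : Set P)
    rw [Scheme.IdealSheafData.coe_support_vanishingIdeal]
    exact ((genericPoint_specializes x).map σ.continuous).mem_closed Z.isClosed (subset_closure rfl)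
  let s := IsClosedImmersion.lift I.subschemeι σ (by rw [I.ker_subschemeι]; exact hle)
  have hs : s ≫ I.subschemeι = σ := IsClosedImmersion.lift_fac _ _ _
  refine ⟨I.subscheme, I.subschemeι, s, inferInstance, inferInstance, ?_⟩
  let f := I.subschemeι ≫ p
  have hsU : Set.range s ⊆ (f ⁻¹ᵁ U : I.subscheme.Opens) := by
    rintro _ ⟨x, rfl⟩
    show f (s x) ∈ U
    rw [show f (s x) = (s ≫ f) x from rfl, show s ≫ f = U.ι by rw [← Category.assoc, hs, hσ]]
    exact x.2
  let t : (U : Scheme.{u}) ⟶ (f ⁻¹ᵁ U : I.subscheme.Opens) :=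
    IsOpenImmersion.lift (f ⁻¹ᵁ U).ι s (by rwa [Scheme.Opens.range_ι])
  have ht : t ≫ (f ⁻¹ᵁ U).ι = s := IsOpenImmersion.lift_fac _ _ _
  have htf : t ≫ (f ∣_ U) = 𝟙 _ := by
    rw [← cancel_mono U.ι, Category.assoc, morphismRestrict_ι, ← Category.assoc, ht, Category.id_comp,
      ← Category.assoc, hs, hσ]
  haveI : IsClosedImmersion t := by
    haveI : IsClosedImmersion (t ≫ (f ∣_ U)) := by rw [htf]; infer_instance
    exact IsClosedImmersion.of_comp t (f ∣_ U)
  haveI : Surjective t := by
    refine ⟨fun y => ?_⟩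
    have h1 : (f ⁻¹ᵁ U).ι y ∈ closure {s η} := by
      rw [I.subschemeι.isClosedEmbedding.isEmbedding.closure_eq_preimage_closure_image, Set.mem_preimage,
        Set.image_singleton, show I.subschemeι (s η) = σ η from congrArg (fun k => k η) hs]
      have h2 : I.subschemeι ((f ⁻¹ᵁ U).ι y) ∈ Set.range I.subschemeι := ⟨_, rfl⟩
      rw [Scheme.IdealSheafData.range_subschemeι, Scheme.IdealSheafData.coe_support_vanishingIdeal] at h2
      exact h2
    have h3 : y ∈ closure {t η} := by
      rw [(f ⁻¹ᵁ U).ι.isOpenEmbedding.isEmbedding.closure_eq_preimage_closure_image, Set.mem_preimage,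
        Set.image_singleton, show (f ⁻¹ᵁ U).ι (t η) = s η from congrArg (fun k => k η) ht]
      exact h1
    exact closure_minimal (Set.singleton_subset_iff.2 (Set.mem_range_self η)) t.isClosedEmbedding.isClosed_range h3
  haveI : IsReduced (f ⁻¹ᵁ U : I.subscheme.Opens).toScheme := isReduced_of_isOpenImmersion (f ⁻¹ᵁ U).ι
  haveI := isIso_of_isClosedImmersion_of_surjective t
  have : f ∣_ U = inv t := by rw [← cancel_epi t, htf, IsIso.hom_inv_id]
  refine ⟨?_, ?_, hs⟩
  · show IsIso (f ∣_ U)
    rw [this]
    infer_instance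
  · rw [← ht]
    infer_instance

end Groth.Agent.RatDivLib
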