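import Groth.Agent.RatDivLib.Alg
import Groth.Agent.RatDivLib.Closure
import Groth.Agent.DimFormulaLib.Field
import Groth.Agent.DimFormulaLib.General
import Groth.Agent.FlatDim.Trdeg
import Groth.Agent.ChowFldLib.TransBase
import Groth.Agent.ChowLib.Main
import Groth.Agent.NormalSch.Curve

/-!
Birational models on which a rational map sends a prime divisor to a divisor or dominates.
-/

set_option autoImplicit false
set_option linter.style.haveILetI false
set_option maxHeartbeats 1600000
set_option backward.isDefEq.respectTransparency false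

universe u

open CategoryTheory CategoryTheory.Limits AlgebraicGeometry TopologicalSpace Opposite
open Groth.Agent.DimFormulaLib

noncomputable section

namespace Groth.Agent.RatDivLib

variable {k : Type u} [Field k]

/-- The residual transcendence degree of the point of a preimmersed spectrum of a field. -/
theorem resTrdegAt_preimmersed {X : Scheme.{u}} (sX : X ⟶ Spec (CommRingCat.of k)) {L : CommRingCat.{u}}
    {hL : IsField L} (a : Spec L ⟶ X) [IsPreimmersion a] [Algebra k L]
    (ha : a ≫ sX = Spec.map (CommRingCat.ofHom (algebraMap k L))) (p : Spec L) :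
    resTrdegAt sX (a p) = Algebra.trdeg k L := by
  letI := hL.toField
  have h := FlatDim.resTrdegAt_congr ha p
  rw [FlatDim.resTrdegAt_comp, FlatDim.resTrdegAt_preimmersion a, add_zero] at h
  rw [h]
  exact ChowFldLib.resTrdegAt_specMap (L := L) p

/-- A point of height one of an integral scheme is immediate below the generic point. -/
theorem immediate_of_dim_one {X : Scheme.{u}} [IsIntegral X] {ξ : X} (hξ : ringKrullDim (X.presheaf.stalk ξ) = 1) :
    genericPoint X ≠ ξ ∧ ∀ y : X, genericPoint X ⤳ y → y ⤳ ξ → y = genericPoint X ∨ y = ξ := by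
  haveI : Ring.KrullDimLE 1 (X.presheaf.stalk ξ) := Ring.krullDimLE_iff.mpr hξ.le
  refine ⟨fun h => ?_, fun y _ hy => ?_⟩
  · subst h
    have h0 : ringKrullDim (X.presheaf.stalk (genericPoint X)) = 0 := ringKrullDim_eq_zero_of_field X.functionField
    exact one_ne_zero (hξ.symm.trans h0)
  · obtain ⟨P, rfl⟩ : y ∈ Set.range (X.fromSpecStalk ξ) := by rw [Scheme.range_fromSpecStalk]; exact hy
    obtain ⟨G, hG⟩ : genericPoint X ∈ Set.range (X.fromSpecStalk ξ) := by
      rw [Scheme.range_fromSpecStalk]; exact genericPoint_specializes ξ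
    by_cases h : (P : PrimeSpectrum (X.presheaf.stalk ξ)).asIdeal = ⊥
    · refine Or.inl ?_
      have hPG : P ⤳ G := (PrimeSpectrum.le_iff_specializes P G).1 (show P.asIdeal ≤ G.asIdeal by rw [h]; exact bot_le)
      have h1 : (X.fromSpecStalk ξ) P ⤳ genericPoint X :=
        (hPG.map (X.fromSpecStalk ξ).continuous).trans (specializes_of_eq hG)
      exact (h1.antisymm (genericPoint_specializes _)).eq
    · refine Or.inr ?_
      haveI := (P : PrimeSpectrum (X.presheaf.stalk ξ)).isPrime
      haveI : (P : PrimeSpectrum (X.presheaf.stalk ξ)).asIdeal.IsMaximal := Ideal.IsPrime.isMaximal_of_ne_bot inferInstance h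
      have hm : P = IsLocalRing.closedPoint (X.presheaf.stalk ξ) :=
        PrimeSpectrum.ext (IsLocalRing.eq_maximalIdeal inferInstance)
      rw [hm]
      exact Scheme.fromSpecStalk_closedPoint

/-- The transcendence degree of a rational function field in finitely many variables. -/
theorem le_trdeg_fractionRing (m : ℕ) :
    (m : Cardinal.{u}) ≤ Algebra.trdeg k (FractionRing (MvPolynomial (Fin m) k)) := by
  have h := ((MvPolynomial.algebraicIndependent_X (Fin m) k).map'
    (f := IsScalarTower.toAlgHom k (MvPolynomial (Fin m) k) (FractionRing (MvPolynomial (Fin m) k)))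
    (IsFractionRing.injective _ _)).lift_cardinalMk_le_trdeg
  simpa using h

/-- The model. -/
theorem exists_model (X Y : Over (Spec (CommRingCat.of k))) [LocallyOfFiniteType X.hom]
    [IsIntegral X.left] (hXn : Pi1.IsNormalScheme X.left) [IsProper Y.hom] [IsIntegral Y.left]
    (ξ : ↥X.left) (hξ : ringKrullDim ↑(X.left.presheaf.stalk ξ) = 1)
    (f : X.left.PartialMap Y.left) (hf : f.hom ≫ Y.hom = f.domain.ι ≫ X.hom) [IsDominant f.hom] :
    ∃ (Y' : Over (Spec (CommRingCat.of k))) (_ : IsProper Y'.hom) (_ : IsIntegral Y'.left) (φ : Y' ⟶ Y)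
      (P : Y'.left.PartialIso Y.left) (_ : P.iso.hom ≫ P.target.ι = P.source.ι ≫ φ.left)
      (g : X.left.PartialMap Y'.left) (_ : g.hom ≫ Y'.hom = g.domain.ι ≫ X.hom)
      (_ : (g.compHom φ.left).toRationalMap = f.toRationalMap) (hξg : ξ ∈ g.domain),
      ringKrullDim ↑(Y'.left.presheaf.stalk (g.hom.base ⟨ξ, hξg⟩)) ≤ 1 := by
  classical
  haveI : IsLocallyNoetherian X.left := LocallyOfFiniteType.isLocallyNoetherian X.hom
  obtain ⟨hdom, hdvr⟩ := NormalSch.isDiscreteValuationRing_stalk hXn ξ hξ
  let R := X.left.presheaf.stalk ξ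
  let KX := X.left.functionField
  let η := genericPoint Y.left
  let KY := Y.left.presheaf.stalk η
  let eX : R ⟶ KX := X.left.presheaf.stalkSpecializes (genericPoint_specializes ξ)
  have heX : Spec.map eX ≫ X.left.fromSpecStalk ξ = X.left.fromSpecStalk (genericPoint X.left) :=
    Scheme.SpecMap_stalkSpecializes_fromSpecStalk _
  let F : Spec KX ⟶ Y.left := f.fromFunctionField
  have hFk : F ≫ Y.hom = X.left.fromSpecStalk (genericPoint X.left) ≫ X.hom := by
    simp only [F, Scheme.PartialMap.fromFunctionField, Scheme.PartialMap.fromSpecStalkOfMem, Category.assoc]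
    rw [hf, Scheme.Opens.fromSpecStalkOfMem_ι_assoc]
  have hFη : F (IsLocalRing.closedPoint KX) = η := by
    have hx0 : genericPoint X.left ∈ f.domain :=
      (genericPoint_specializes _).mem_open f.domain.2 f.dense_domain.nonempty.choose_spec
    have h1 : F (IsLocalRing.closedPoint KX) = f.hom ⟨genericPoint X.left, hx0⟩ := by
      show f.hom (f.domain.fromSpecStalkOfMem _ hx0 _) = _
      congr 1
      refine Subtype.ext ?_
      show (f.domain.fromSpecStalkOfMem _ hx0 ≫ f.domain.ι) _ = _
      rw [Scheme.Opens.fromSpecStalkOfMem_ι]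
      exact Scheme.fromSpecStalk_closedPoint
    rw [h1]
    refine (Inseparable.eq ?_)
    refine inseparable_iff_specializes_and.2 ⟨?_, genericPoint_specializes _⟩
    rw [specializes_iff_mem_closure]
    have hsub : Set.range f.hom ⊆ closure {f.hom ⟨genericPoint X.left, hx0⟩} := by
      rintro _ ⟨x, rfl⟩
      refine specializes_iff_mem_closure.1 (Specializes.map ?_ f.hom.continuous)
      exact f.domain.ι.isOpenEmbedding.isInducing.specializes_iff.1 (genericPoint_specializes x.1)
    exact closure_minimal hsub isClosed_closure (f.hom.denseRange.closure_range.ge trivial)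
  let ι : KY ⟶ KX := Y.left.presheaf.stalkSpecializes (specializes_of_eq hFη) ≫ Scheme.stalkClosedPointTo F
  have hι : Spec.map ι ≫ Y.left.fromSpecStalk η = F := by
    rw [Spec.map_comp, Category.assoc, Scheme.SpecMap_stalkSpecializes_fromSpecStalk,
      Scheme.Spec_stalkClosedPointTo_fromSpecStalk]
  -- algebra structures
  let cR : CommRingCat.of k ⟶ R := Spec.preimage (X.left.fromSpecStalk ξ ≫ X.hom)
  let cY : CommRingCat.of k ⟶ KY := Spec.preimage (Y.left.fromSpecStalk η ≫ Y.hom)
  have hcR : Spec.map cR = X.left.fromSpecStalk ξ ≫ X.hom := Spec.map_preimage _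
  have hcY : Spec.map cY = Y.left.fromSpecStalk η ≫ Y.hom := Spec.map_preimage _
  have htow : cY ≫ ι = cR ≫ eX := Spec.map_injective (by
    rw [Spec.map_comp cY ι, Spec.map_comp cR eX, hcY, hcR, reassoc_of% hι, hFk, reassoc_of% heX])
  let κ := IsLocalRing.ResidueField R
  letI : Algebra k R := cR.hom.toAlgebra
  letI : Algebra k KY := cY.hom.toAlgebra
  letI : Algebra k KX := (cR ≫ eX).hom.toAlgebra
  letI : Algebra KY KX := ι.hom.toAlgebra
  haveI : IsScalarTower k KY KX := .of_algebraMap_eq fun r => (congrArg (fun φ => φ r) htow).symm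
  haveI : IsScalarTower k R KX := .of_algebraMap_eq fun r => rfl
  letI : Algebra k κ := ((IsLocalRing.residue R).comp cR.hom).toAlgebra
  haveI : IsScalarTower k R κ := .of_algebraMap_eq fun r => rfl
  letI : Field KY := inferInstanceAs (Field Y.left.functionField)
  -- transcendence degrees
  obtain ⟨a, t, ha, ht, -, -⟩ := field_dims X.hom ξ
  obtain ⟨hne, himm⟩ := immediate_of_dim_one hξ
  have htK : resTrdegAt X.hom (genericPoint X.left) = ((t + 1 : ℕ) : Cardinal.{u}) :=
    trdeg_immediate X.hom _ ξ hne (genericPoint_specializes ξ) himm t ht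
  have hKX : Algebra.trdeg k KX = ((t + 1 : ℕ) : Cardinal.{u}) := by
    rw [← htK, ← Scheme.fromSpecStalk_closedPoint (x := genericPoint X.left)]
    exact (resTrdegAt_preimmersed X.hom (hL := Field.toIsField KX) (X.left.fromSpecStalk _)
      (by rw [← heX, Category.assoc, ← hcR, ← Spec.map_comp]; rfl) _).symm
  haveI : IsPreimmersion (Spec.map (CommRingCat.ofHom (IsLocalRing.residue R)) ≫ X.left.fromSpecStalk ξ) := by
    haveI : IsClosedImmersion (Spec.map (CommRingCat.ofHom (IsLocalRing.residue R))) :=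
      IsClosedImmersion.spec_of_surjective _ IsLocalRing.residue_surjective
    infer_instance
  have hκ : Algebra.trdeg k κ = (t : Cardinal.{u}) := by
    let P0 : Spec (CommRingCat.of κ) := IsLocalRing.closedPoint κ
    have hpt : (Spec.map (CommRingCat.ofHom (IsLocalRing.residue R)) ≫ X.left.fromSpecStalk ξ) P0 = ξ := by
      rw [Scheme.Hom.comp_apply, show Spec.map (CommRingCat.ofHom (IsLocalRing.residue R)) P0 = IsLocalRing.closedPoint R
        from IsLocalRing.comap_closedPoint (IsLocalRing.residue R)]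
      exact Scheme.fromSpecStalk_closedPoint
    exact (resTrdegAt_preimmersed X.hom (L := CommRingCat.of κ) (hL := Field.toIsField κ)
      (Spec.map (CommRingCat.ofHom (IsLocalRing.residue R)) ≫ X.left.fromSpecStalk ξ)
      (by rw [Category.assoc, ← hcR, ← Spec.map_comp]; rfl) P0).symm.trans ((congrArg (resTrdegAt X.hom) hpt).trans ht)
  obtain ⟨aY, n, -, hn, -, -⟩ := field_dims Y.hom η
  have hKY : Algebra.trdeg k KY = (n : Cardinal.{u}) := by
    rw [← hn, ← Scheme.fromSpecStalk_closedPoint (x := η)]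
    exact (resTrdegAt_preimmersed Y.hom (hL := Field.toIsField KY) (Y.left.fromSpecStalk η) hcY.symm _).symm
  let m := n - 1
  obtain ⟨tt, rr, htr, hind⟩ := exists_indep_residues (k := k) (F := KY) (K := KX) (R := R) (κ := κ)
    IsLocalRing.residue_surjective hκ hKX hKY (m := m) (by omega)
  -- the open where the functions are regular
  choose O hO sO hsO using fun i => TopCat.Presheaf.exists_germ_eq Y.left.presheaf (tt i)
  obtain ⟨_, ⟨(U : Y.left.Opens), hU, rfl⟩, hηU, hUO⟩ := Y.left.isBasis_affineOpens.exists_subset_of_mem_open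
    (Set.mem_iInter.2 hO) (isOpen_iInter_of_finite fun i => (O i).2)
  let sU : Fin m → Γ(Y.left, U) := fun i =>
    Y.left.presheaf.map (homOfLE fun x hx => Set.mem_iInter.1 (hUO hx) i).op (sO i)
  have hsU : ∀ i, Y.left.presheaf.germ U η hηU (sU i) = tt i := fun i => by
    rw [← hsO i, TopCat.Presheaf.germ_res_apply]
  let A := CommRingCat.of (MvPolynomial (Fin m) k)
  let sA : Spec A ⟶ Spec (CommRingCat.of k) := Spec.map (CommRingCat.ofHom (algebraMap k (MvPolynomial (Fin m) k)))
  let cU : CommRingCat.of k ⟶ Γ(Y.left, U) := Spec.preimage (hU.fromSpec ≫ Y.hom)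
  letI : Algebra k Γ(Y.left, U) := cU.hom.toAlgebra
  let evU : A ⟶ Γ(Y.left, U) := CommRingCat.ofHom (MvPolynomial.aeval sU).toRingHom
  have hcU : cU ≫ Y.left.presheaf.germ U η hηU = cY := Spec.map_injective (by
    rw [Spec.map_comp, Spec.map_preimage, hcY, ← hU.fromSpecStalk_eq_fromSpecStalk hηU, IsAffineOpen.fromSpecStalk,
      Category.assoc])
  have hevU : evU ≫ Y.left.presheaf.germ U η hηU = CommRingCat.ofHom (MvPolynomial.aeval tt).toRingHom := by
    refine CommRingCat.hom_ext (MvPolynomial.ringHom_ext (fun c => ?_) fun i => ?_)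
    · show Y.left.presheaf.germ U η hηU (MvPolynomial.aeval sU (MvPolynomial.C c)) = MvPolynomial.aeval tt (MvPolynomial.C c)
      rw [MvPolynomial.aeval_C, MvPolynomial.aeval_C]
      exact congrArg (fun φ => φ c) hcU
    · show Y.left.presheaf.germ U η hηU (MvPolynomial.aeval sU (MvPolynomial.X i)) = MvPolynomial.aeval tt (MvPolynomial.X i)
      rw [MvPolynomial.aeval_X, MvPolynomial.aeval_X, hsU]
  haveI : LocallyOfFiniteType sA := (HasRingHomProperty.Spec_iff (P := @LocallyOfFiniteType)).2
    (RingHom.finiteType_algebraMap.2 inferInstance)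
  obtain ⟨N, j, hj, hjb⟩ := ChowLib.exists_immersion_quasiAffine sA (V := ⊤)
    (ChowLib.isQuasiAffine_of_isAffineOpen (isAffineOpen_top (Spec A)))
  let jA : Spec A ⟶ CohB1.ProjSpaceOver N (Spec (CommRingCat.of k)) := (Spec A).topIso.inv ≫ j
  have hjA : jA ≫ CohB1.ProjSpaceOver.toBase N _ = sA := by
    rw [Category.assoc, hjb, ← Scheme.topIso_hom, Iso.inv_hom_id_assoc]
  haveI : IsProper (CohB1.ProjSpaceOver.toBase N (Spec (CommRingCat.of k))) :=
    (ProjBundleLib.isProper_of_isHProjective (f := CohB1.ProjSpaceOver.toBase N (Spec (CommRingCat.of k))) ⟨N, 𝟙 _, inferInstance, Category.id_comp _⟩).2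
  let τ : (U : Scheme.{u}) ⟶ CohB1.ProjSpaceOver N (Spec (CommRingCat.of k)) := hU.isoSpec.hom ≫ Spec.map evU ≫ jA
  have hτ : U.ι ≫ Y.hom = τ ≫ CohB1.ProjSpaceOver.toBase N _ := by
    simp only [τ, Category.assoc, hjA]
    rw [show Spec.map evU ≫ sA = Spec.map cU from by
      rw [← Spec.map_comp]; congr 1; exact CommRingCat.hom_ext (MvPolynomial.aeval sU).comp_algebraMap,
      Spec.map_preimage, ← Category.assoc, IsAffineOpen.isoSpec_hom_fromSpec]
  let PY := pullback Y.hom (CohB1.ProjSpaceOver.toBase N (Spec (CommRingCat.of k)))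
  let σ : (U : Scheme.{u}) ⟶ PY := pullback.lift U.ι τ hτ
  obtain ⟨Y', i, s, hY', hi, hiso, hsOI, hsi⟩ :=
    exists_closure (pullback.fst Y.hom (CohB1.ProjSpaceOver.toBase N _)) U σ (pullback.lift_fst _ _ _) ⟨η, hηU⟩
  haveI := hY'
  haveI := hi
  haveI := hsOI
  let φ : Y' ⟶ Y.left := i ≫ pullback.fst _ _
  haveI : IsIso (φ ∣_ U) := hiso
  let sY' : Y' ⟶ Spec (CommRingCat.of k) := φ ≫ Y.hom
  have hsφ : s ≫ φ = U.ι := by rw [← Category.assoc, hsi, pullback.lift_fst]
  let q : Y' ⟶ CohB1.ProjSpaceOver N (Spec (CommRingCat.of k)) := i ≫ pullback.snd _ _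
  have hq : q ≫ CohB1.ProjSpaceOver.toBase N _ = sY' := by
    simp only [q, sY', φ, Category.assoc, pullback.condition]
  have hsq : s ≫ q = τ := by rw [← Category.assoc, hsi, pullback.lift_snd]
  -- the valuative square
  let u0 : Spec KY ⟶ (U : Scheme.{u}) := U.fromSpecStalkOfMem η hηU
  let ψK : Spec KX ⟶ Y' := Spec.map ι ≫ u0 ≫ s
  have hψKφ : ψK ≫ φ = F := by
    simp only [ψK, Category.assoc, hsφ, u0, Scheme.Opens.fromSpecStalkOfMem_ι, hι]
  let S : ValuativeCommSq sY' :=
    { R := R
      K := KX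
      i₁ := ψK
      i₂ := X.left.fromSpecStalk ξ ≫ X.hom
      commSq := ⟨by
        show ψK ≫ φ ≫ Y.hom = Spec.map eX ≫ X.left.fromSpecStalk ξ ≫ X.hom
        rw [reassoc_of% hψKφ, hFk, reassoc_of% heX]⟩ }
  haveI : IsProper sY' := inferInstance
  have hex : ValuativeCriterion.Existence sY' := by
    have h := UniversallyClosed.eq_valuativeCriterion
    have hu : @UniversallyClosed _ _ sY' := inferInstance
    rw [h] at hu
    exact hu.1
  obtain ⟨⟨L⟩⟩ := hex S
  let ψ : Spec R ⟶ Y' := L.l
  have hψ1 : Spec.map eX ≫ ψ = ψK := L.fac_left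
  have hψ2 : ψ ≫ sY' = X.left.fromSpecStalk ξ ≫ X.hom := L.fac_right
  let g := Scheme.PartialMap.ofFromSpecStalk X.hom sY' ψ hψ2
  have hξg : ξ ∈ g.domain := Scheme.PartialMap.mem_domain_ofFromSpecStalk X.hom sY' ψ hψ2
  have hgψ : g.fromSpecStalkOfMem hξg = ψ := Scheme.PartialMap.fromSpecStalkOfMem_ofFromSpecStalk X.hom sY' ψ hψ2
  have hgK : g.fromFunctionField = ψK := by
    rw [← hψ1, ← hgψ, Scheme.PartialMap.fromFunctionField, Scheme.PartialMap.fromSpecStalkOfMem,
      Scheme.PartialMap.fromSpecStalkOfMem, ← Category.assoc]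
    congr 1
    rw [← cancel_mono g.domain.ι, Category.assoc, Scheme.Opens.fromSpecStalkOfMem_ι,
      Scheme.Opens.fromSpecStalkOfMem_ι]
    exact heX.symm
  have hdense : Dense ((φ ⁻¹ᵁ U : Y'.Opens) : Set Y') := (φ ⁻¹ᵁ U).2.dense ⟨s ⟨η, hηU⟩, by
    show φ (s ⟨η, hηU⟩) ∈ U
    rw [← Scheme.Hom.comp_apply, hsφ]
    exact hηU⟩
  let Pi : Y'.PartialIso Y.left := ⟨φ ⁻¹ᵁ U, hdense, U, U.2.dense ⟨η, hηU⟩, asIso (φ ∣_ U)⟩
  refine ⟨Over.mk sY', inferInstanceAs (IsProper sY'), hY', Over.homMk φ rfl, Pi, morphismRestrict_ι φ U, g,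
    Scheme.PartialMap.ofFromSpecStalk_comp X.hom sY' ψ hψ2, ?_, hξg, ?_⟩
  · refine Scheme.RationalMap.eq_of_fromFunctionField_eq _ _ ?_
    rw [Scheme.RationalMap.fromFunctionField_toRationalMap, Scheme.RationalMap.fromFunctionField_toRationalMap]
    show (g.compHom φ).fromSpecStalkOfMem _ = F
    rw [Scheme.PartialMap.fromSpecStalkOfMem_compHom, ← hψKφ, ← hgK]
  -- the dimension of the centre
  show ringKrullDim (Y'.presheaf.stalk (g.hom ⟨ξ, hξg⟩)) ≤ 1
  have hy : g.hom ⟨ξ, hξg⟩ = ψ (IsLocalRing.closedPoint R) := by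
    rw [← hgψ, Scheme.PartialMap.fromSpecStalkOfMem, Scheme.Hom.comp_apply]
    congr 1
    refine Subtype.ext ?_
    show _ = (g.domain.fromSpecStalkOfMem ξ hξg ≫ g.domain.ι) _
    rw [Scheme.Opens.fromSpecStalkOfMem_ι]
    exact Scheme.fromSpecStalk_closedPoint.symm
  let evR : A ⟶ R := CommRingCat.ofHom (MvPolynomial.aeval rr).toRingHom
  have hev : evR ≫ eX = CommRingCat.ofHom (MvPolynomial.aeval tt).toRingHom ≫ ι := by
    refine CommRingCat.hom_ext (MvPolynomial.ringHom_ext (fun c => ?_) fun i => ?_)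
    · show eX (MvPolynomial.aeval rr (MvPolynomial.C c)) = ι (MvPolynomial.aeval tt (MvPolynomial.C c))
      rw [MvPolynomial.aeval_C, MvPolynomial.aeval_C]
      exact (congrArg (fun φ => φ c) htow).symm
    · show eX (MvPolynomial.aeval rr (MvPolynomial.X i)) = ι (MvPolynomial.aeval tt (MvPolynomial.X i))
      rw [MvPolynomial.aeval_X, MvPolynomial.aeval_X]
      exact (htr i).symm
  have hχ : ψ ≫ q = Spec.map evR ≫ jA := by
    haveI : IsDominant (Spec.map eX) := ⟨by
      rw [DenseRange]
      exact (PrimeSpectrum.denseRange_comap_iff_ker_le_nilRadical eX.hom).2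
        (by rw [(RingHom.injective_iff_ker_eq_bot eX.hom).1 (IsFractionRing.injective R KX)]; exact bot_le)⟩
    refine ext_of_isDominant_of_isSeparated (CohB1.ProjSpaceOver.toBase N (Spec (CommRingCat.of k))) ?_ (Spec.map eX) ?_
    · rw [Category.assoc, hq, hψ2, Category.assoc, hjA, ← Spec.map_comp, ← hcR]
      congr 1
      exact (CommRingCat.hom_ext (MvPolynomial.aeval rr).comp_algebraMap).symm
    · rw [reassoc_of% hψ1, ← Category.assoc (Spec.map eX) (Spec.map evR), ← Spec.map_comp, hev, Spec.map_comp]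
      simp only [ψK, Category.assoc, hsq, τ]
      congr 1
      rw [← hevU, Spec.map_comp, Category.assoc]
      simp only [← Category.assoc]
      congr 2
      simp only [u0]
      rw [IsAffineOpen.isoSpec_hom, Scheme.Opens.fromSpecStalkOfMem_toSpecΓ]
  let G : Spec A := ⟨⊥, Ideal.isPrime_bot⟩
  have hpt : q (ψ (IsLocalRing.closedPoint R)) = jA G := by
    rw [← Scheme.Hom.comp_apply, hχ, Scheme.Hom.comp_apply]
    congr 1
    refine PrimeSpectrum.ext ?_
    show (IsLocalRing.maximalIdeal R).comap (MvPolynomial.aeval (R := k) rr).toRingHom = ⊥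
    rw [← IsLocalRing.ker_residue, RingHom.comap_ker]
    refine (RingHom.injective_iff_ker_eq_bot _).1 ?_
    have h := (algebraicIndependent_iff_injective_aeval.1 hind)
    have e : (IsLocalRing.residue R).comp (MvPolynomial.aeval (R := k) rr).toRingHom =
        (MvPolynomial.aeval (R := k) fun i => algebraMap R κ (rr i)).toRingHom :=
      MvPolynomial.ringHom_ext
        (fun c => by
          show IsLocalRing.residue R (MvPolynomial.aeval (R := k) rr (MvPolynomial.C c)) = MvPolynomial.aeval (R := k) (fun i => algebraMap R κ (rr i)) (MvPolynomial.C c)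
          rw [MvPolynomial.aeval_C, MvPolynomial.aeval_C]
          rfl)
        fun i => by
          show IsLocalRing.residue R (MvPolynomial.aeval (R := k) rr (MvPolynomial.X i)) = MvPolynomial.aeval (R := k) (fun i => algebraMap R κ (rr i)) (MvPolynomial.X i)
          rw [MvPolynomial.aeval_X, MvPolynomial.aeval_X]
          rfl
    rw [e]
    exact h
  have hG : (m : Cardinal.{u}) ≤ resTrdegAt sA G := by
    let Fr := FractionRing (MvPolynomial (Fin m) k)
    let b : Spec (CommRingCat.of Fr) ⟶ Spec A := Spec.map (CommRingCat.ofHom (algebraMap (MvPolynomial (Fin m) k) Fr))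
    haveI : IsPreimmersion b := IsPreimmersion.of_isLocalization (R := MvPolynomial (Fin m) k) (nonZeroDivisors _)
    have hb : b (IsLocalRing.closedPoint Fr) = G := PrimeSpectrum.ext (by
      show (IsLocalRing.maximalIdeal Fr).comap (algebraMap _ Fr) = ⊥
      rw [IsLocalRing.maximalIdeal_eq_bot]
      exact (RingHom.injective_iff_ker_eq_bot _).1 (IsFractionRing.injective _ _))
    rw [← hb, resTrdegAt_preimmersed sA (L := CommRingCat.of Fr) (hL := Field.toIsField Fr) b
      (by rw [← Spec.map_comp, ← CommRingCat.ofHom_comp, ← IsScalarTower.algebraMap_eq]) _]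
    exact le_trdeg_fractionRing m
  obtain ⟨ay, ny, -, hny, -, -⟩ := field_dims sY' (g.hom ⟨ξ, hξg⟩)
  have hmy : m ≤ ny := by
    have h1 := FlatDim.resTrdegAt_congr hq (g.hom ⟨ξ, hξg⟩)
    rw [FlatDim.resTrdegAt_comp, hny] at h1
    have h2 := FlatDim.resTrdegAt_congr hjA G
    haveI : IsPreimmersion jA := inferInstance
    rw [FlatDim.resTrdegAt_comp, FlatDim.resTrdegAt_preimmersion jA, add_zero] at h2
    have h3 : (m : Cardinal.{u}) ≤ ny := by
      rw [← h1]
      refine le_trans ?_ le_self_add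
      rw [hy, hpt, h2]
      exact hG
    exact_mod_cast h3
  have hgen : resTrdegAt sY' (genericPoint Y') = (n : Cardinal.{u}) := by
    haveI : Nonempty U := ⟨⟨η, hηU⟩⟩
    rw [← genericPoint_eq_of_isOpenImmersion s]
    have h1 := FlatDim.resTrdegAt_congr (show s ≫ sY' = U.ι ≫ Y.hom by rw [← Category.assoc, hsφ])
      (genericPoint (U : Scheme.{u}))
    rw [FlatDim.resTrdegAt_comp s sY', FlatDim.resTrdegAt_comp U.ι Y.hom, FlatDim.resTrdegAt_preimmersion s,
      FlatDim.resTrdegAt_preimmersion U.ι, add_zero, add_zero, genericPoint_eq_of_isOpenImmersion U.ι] at h1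
    rw [h1]
    exact hn
  have hdim := stalk_dim_add_trdeg_le sY' (g.hom ⟨ξ, hξg⟩) ny n hny fun z hz _ => by
    have : z = genericPoint Y' := by
      have h1 : closure {z} = Set.univ := by
        rwa [irreducibleComponents_eq_singleton, Set.mem_singleton_iff] at hz
      exact (show IsGenericPoint z Set.univ from h1).eq (genericPoint_spec Y')
    rw [this, hgen]
  obtain ⟨cy, hcy⟩ : ∃ c : ℕ, ringKrullDim (Y'.presheaf.stalk (g.hom ⟨ξ, hξg⟩)) = c :=
    ⟨_, (field_dims sY' (g.hom ⟨ξ, hξg⟩)).choose_spec.choose_spec.1⟩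
  rw [ringKrullDim_eq_zero_of_isField (isField_stalk k _).1, zero_add, hcy] at hdim
  rw [hcy]
  have : cy + ny ≤ n := by exact_mod_cast hdim
  exact_mod_cast (by omega : cy ≤ 1)

end Groth.Agent.RatDivLib
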